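import Cfsg.Agent.Lib.InvertedBound.Count
import Cfsg.Agent.Lib.ZipperVariant.Iterated

/-!
# Groups generated by commutators with an involutive automorphism

Their order is bounded by a function of the number of inverted elements of odd order.
-/

set_option autoImplicit false

namespace Cfsg.Agent.Lib.InvertedBound

universe u

open scoped commutatorElement

variable {G : Type u} [Group G]

/-- Inverted elements of odd order. -/
def oddInverted (β : G →* G) : Set G := {g | Odd (orderOf g) ∧ β g = g⁻¹}

theorem odd_orderOf_pow [Finite G] (y : G) {k : ℕ} (hk : Nat.card G ≤ k) :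
    Odd (orderOf (y ^ 2 ^ k)) := by
  obtain ⟨a, b, hb, hab⟩ := Nat.exists_eq_pow_mul_and_not_dvd (orderOf_pos y).ne' 2 (by norm_num)
  have ha : a ≤ k := by
    have h1 : 2 ^ a ≤ Nat.card G := (Nat.le_of_dvd (orderOf_pos y) ⟨b, hab⟩).trans
      (Nat.le_of_dvd Nat.card_pos (orderOf_dvd_natCard y))
    exact (Nat.lt_two_pow_self).le.trans (h1.trans hk)
  have h2 : (y ^ 2 ^ k) ^ b = 1 := by
    rw [← pow_mul, ← orderOf_dvd_iff_pow_eq_one, hab]
    exact Nat.mul_dvd_mul_right (pow_dvd_pow 2 ha) b
  refine Nat.not_even_iff_odd.mp fun he => hb ?_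
  exact (even_iff_two_dvd.mp he).trans (orderOf_dvd_of_pow_eq_one h2)

theorem closure_oddInverted [Finite G] {β : G →* G} (hβ : ∀ x, β (β x) = x)
    (hG : Subgroup.closure (Set.range fun c : G => c * (β c)⁻¹) = ⊤) :
    Subgroup.closure (oddInverted β) = ⊤ := by
  let e : MulAut G := { toFun := β, invFun := β, left_inv := hβ, right_inv := hβ, map_mul' := map_mul β }
  have h := ZipperVariant.closure_iterate_aut e hG (Nat.card G + 1) (by omega)
  rw [eq_top_iff, ← h]
  refine Subgroup.closure_mono ?_
  rintro _ ⟨c, rfl⟩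
  rw [Function.iterate_succ_apply]
  set y := c * (β c)⁻¹ with hy
  have hinv : β y = y⁻¹ := map_range_inv hβ ⟨c, rfl⟩
  have hit : ∀ j, ((fun c : G => c * (e c)⁻¹)^[j]) y = y ^ 2 ^ j := fun j => by
    induction j with
    | zero => simp
    | succ j ih =>
      rw [Function.iterate_succ_apply', ih]
      show y ^ 2 ^ j * (β (y ^ 2 ^ j))⁻¹ = _
      rw [map_pow, hinv, inv_pow, inv_inv, ← pow_add, pow_succ, mul_two]
  show ((fun c : G => c * (e c)⁻¹)^[Nat.card G]) y ∈ _
  rw [hit]
  exact ⟨odd_orderOf_pow y le_rfl, by rw [map_pow, hinv, inv_pow]⟩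

/-- Inverted elements of odd order lift. -/
theorem exists_lift [Finite G] {Q : Type*} [Group Q] {π : G →* Q} (hπ : Function.Surjective π)
    {β : G →* G} (hβ : ∀ x, β (β x) = x) {γ : Q →* Q} (hγ : ∀ g, γ (π g) = π (β g)) {y : Q}
    (hodd : Odd (orderOf y)) (hy : γ y = y⁻¹) : ∃ j ∈ oddInverted β, π j = y := by
  obtain ⟨t, ht⟩ := hodd
  obtain ⟨c, hc⟩ := hπ (y ^ (t + 1))
  set w := c * (β c)⁻¹ with hw
  have hwy : π w = y := by
    rw [hw, map_mul, map_inv, ← hγ, hc, map_pow, hy, inv_pow, inv_inv, ← pow_add,
      show t + 1 + (t + 1) = orderOf y + 1 by omega, pow_succ, pow_orderOf_eq_one, one_mul]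
  have hcop : (2 ^ Nat.card G).Coprime (orderOf y) :=
    Nat.Coprime.pow_left _ (Nat.coprime_two_left.mpr ⟨t, ht⟩)
  obtain ⟨l, hl⟩ := exists_pow_eq_self_of_coprime (x := y) hcop
  refine ⟨(w ^ 2 ^ Nat.card G) ^ l, ⟨?_, ?_⟩, by rw [map_pow, map_pow, hwy, hl]⟩
  · exact (odd_orderOf_pow w le_rfl).of_dvd_nat (orderOf_pow_dvd l)
  · rw [map_pow, map_pow, map_range_inv hβ ⟨c, rfl⟩, inv_pow, inv_pow]

theorem commutatorSet_card_le [Finite G] :
    Nat.card (commutatorSet G) ≤ (Subgroup.center G).index * (Subgroup.center G).index := by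
  classical
  rw [Subgroup.index, ← Nat.card_prod]
  refine Nat.card_le_card_of_surjective
    (fun q => ⟨⁅q.1.out, q.2.out⁆, q.1.out, q.2.out, rfl⟩) ?_
  rintro ⟨_, a, b, rfl⟩
  refine ⟨(QuotientGroup.mk a, QuotientGroup.mk b), Subtype.ext ?_⟩
  obtain ⟨z, hz⟩ := QuotientGroup.mk_out_eq_mul (Subgroup.center G) a
  obtain ⟨w, hw⟩ := QuotientGroup.mk_out_eq_mul (Subgroup.center G) b
  show ⁅(QuotientGroup.mk a : G ⧸ _).out, (QuotientGroup.mk b : G ⧸ _).out⁆ = ⁅a, b⁆
  rw [hz, hw, commutatorElement_def, commutatorElement_def]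
  have hz' := Subgroup.mem_center_iff.mp z.2
  have hw' := Subgroup.mem_center_iff.mp w.2
  calc a * z * (b * w) * (a * z)⁻¹ * (b * w)⁻¹
      = a * (z * b) * (w * (z : G)⁻¹) * a⁻¹ * (b * w)⁻¹ := by group
    _ = a * (b * z) * ((z : G)⁻¹ * w) * a⁻¹ * (b * w)⁻¹ := by rw [hz' b, hw' (z : G)⁻¹]
    _ = a * b * (w * a⁻¹) * ((w : G)⁻¹ * b⁻¹) := by group
    _ = a * b * (a⁻¹ * w) * ((w : G)⁻¹ * b⁻¹) := by rw [hw' a⁻¹]
    _ = a * b * a⁻¹ * b⁻¹ := by group

section Quot

variable {β : G →* G} {N : Subgroup G} [N.Normal] (hN : ∀ x ∈ N, β x ∈ N)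

/-- The induced endomorphism of the quotient. -/
def quotHom : G ⧸ N →* G ⧸ N := QuotientGroup.map N N β fun x hx => hN x hx

theorem quotHom_mk (g : G) :
    quotHom hN (QuotientGroup.mk' N g) = QuotientGroup.mk' N (β g) := rfl

theorem quotHom_invol (hβ : ∀ x, β (β x) = x) (q : G ⧸ N) : quotHom hN (quotHom hN q) = q := by
  obtain ⟨g, rfl⟩ := QuotientGroup.mk'_surjective N q
  rw [quotHom_mk, quotHom_mk, hβ]

theorem closure_range_quot (hG : Subgroup.closure (Set.range fun c : G => c * (β c)⁻¹) = ⊤) :
    Subgroup.closure (Set.range fun c : G ⧸ N => c * (quotHom hN c)⁻¹) = ⊤ := by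
  rw [eq_top_iff, ← Subgroup.map_top_of_surjective _ (QuotientGroup.mk'_surjective N), ← hG,
    MonoidHom.map_closure]
  refine Subgroup.closure_mono ?_
  rintro _ ⟨_, ⟨c, rfl⟩, rfl⟩
  exact ⟨QuotientGroup.mk' N c, by simp [quotHom_mk, map_mul, map_inv]; rfl⟩

/-- Two collapsing elements make the number strictly smaller. -/
theorem card_oddInverted_quot_lt [Finite G] (hβ : ∀ x, β (β x) = x) {i j : G}
    (hi : i ∈ oddInverted β) (hj : j ∈ oddInverted β) (hne : i ≠ j) (hij : i⁻¹ * j ∈ N) :
    Nat.card (oddInverted (quotHom hN)) < Nat.card (oddInverted β) := by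
  classical
  have hmap : ∀ g ∈ oddInverted β, QuotientGroup.mk' N g ∈ oddInverted (quotHom hN) := fun g hg =>
    ⟨hg.1.of_dvd_nat (orderOf_map_dvd _ g), by rw [quotHom_mk, hg.2, map_inv]⟩
  let f : oddInverted β → oddInverted (quotHom hN) := fun g => ⟨_, hmap g g.2⟩
  have hsurj : Function.Surjective f := by
    rintro ⟨y, hy⟩
    obtain ⟨g, hg, hgy⟩ := exists_lift (QuotientGroup.mk'_surjective N) hβ
      (γ := quotHom hN) (fun g => quotHom_mk hN g) hy.1 hy.2
    exact ⟨⟨g, hg⟩, Subtype.ext hgy⟩
  refine lt_of_le_of_ne (Nat.card_le_card_of_surjective f hsurj) fun he => hne ?_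
  have hb := hsurj.bijective_of_nat_card_le he.ge
  exact congrArg Subtype.val (hb.1 (a₁ := ⟨i, hi⟩) (a₂ := ⟨j, hj⟩)
    (Subtype.ext (QuotientGroup.eq.mpr hij)))

end Quot

theorem center_invariant {β : G →* G} (hβ : ∀ x, β (β x) = x) :
    ∀ z ∈ Subgroup.center G, β z ∈ Subgroup.center G := fun z hz =>
  Subgroup.mem_center_iff.mpr fun g => by
    have := congrArg β (Subgroup.mem_center_iff.mp hz (β g))
    rwa [map_mul, map_mul, hβ] at this

/-- Fixed points on the central quotient act faithfully on the inverted elements. -/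
theorem card_fixed_quot_center_le [Finite G] {β : G →* G} (hβ : ∀ x, β (β x) = x)
    (hJ : Subgroup.closure (oddInverted β) = ⊤) :
    Nat.card (fixedSub (quotHom (center_invariant hβ))) ≤
      Nat.card (oddInverted β) ^ Nat.card (oddInverted β) := by
  classical
  set F := fixedSub (quotHom (center_invariant hβ))
  have hconj : ∀ (q : F) (j : oddInverted β),
      (q : G ⧸ Subgroup.center G).out * j * (q : G ⧸ Subgroup.center G).out⁻¹ ∈ oddInverted β := by
    intro q j
    set g := (q : G ⧸ Subgroup.center G).out with hg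
    have hq : QuotientGroup.mk' (Subgroup.center G) g = q := QuotientGroup.out_eq' _
    have h1 : QuotientGroup.mk' (Subgroup.center G) (β g) = QuotientGroup.mk' (Subgroup.center G) g := by
      rw [← quotHom_mk (center_invariant hβ), hq]
      exact q.2
    have hz : g⁻¹ * β g ∈ Subgroup.center G := QuotientGroup.eq.mp h1.symm
    refine ⟨?_, ?_⟩
    · have : orderOf (MulAut.conj g (j : G)) = orderOf (j : G) := MulEquiv.orderOf_eq _ _
      exact this.symm ▸ j.2.1
    · rw [map_mul, map_mul, map_inv, j.2.2]
      have hb : β g = g * (g⁻¹ * β g) := (mul_inv_cancel_left g (β g)).symm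
      have hc := Subgroup.mem_center_iff.mp hz (j : G)⁻¹
      calc β g * (j : G)⁻¹ * (β g)⁻¹ = g * ((g⁻¹ * β g) * (j : G)⁻¹) * (g⁻¹ * β g)⁻¹ * g⁻¹ := by group
        _ = g * ((j : G)⁻¹ * (g⁻¹ * β g)) * (g⁻¹ * β g)⁻¹ * g⁻¹ := by rw [← hc]
        _ = (g * (j : G) * g⁻¹)⁻¹ := by group
  let σ : F → (oddInverted β → oddInverted β) := fun q j => ⟨_, hconj q j⟩
  have hσ : Function.Injective σ := by
    intro q q' h
    set g := (q : G ⧸ Subgroup.center G).out
    set g' := (q' : G ⧸ Subgroup.center G).out
    have hcomm : g'⁻¹ * g ∈ Subgroup.center G := by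
      rw [Subgroup.mem_center_iff]
      intro x
      have hx : x ∈ Subgroup.closure (oddInverted β) := by rw [hJ]; trivial
      induction hx using Subgroup.closure_induction with
      | mem y hy =>
        have h1 : g * y * g⁻¹ = g' * y * g'⁻¹ := congrArg Subtype.val (congrFun h ⟨y, hy⟩)
        calc y * (g'⁻¹ * g) = g'⁻¹ * (g' * y * g'⁻¹) * g := by group
          _ = g'⁻¹ * (g * y * g⁻¹) * g := by rw [h1]
          _ = _ := by group
      | one => simp
      | mul y z _ _ hy hz => exact ((show Commute y _ from hy).mul_left (show Commute z _ from hz)).eq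
      | inv y _ hy => exact ((show Commute y _ from hy).inv_left).eq
    refine Subtype.ext ?_
    rw [← QuotientGroup.out_eq' (q : G ⧸ Subgroup.center G),
      ← QuotientGroup.out_eq' (q' : G ⧸ Subgroup.center G)]
    exact (QuotientGroup.eq.mpr hcomm).symm
  exact (Nat.card_le_card_of_injective σ hσ).trans_eq Nat.card_fun

/-- The main bound. -/
theorem exists_bound (m : ℕ) : ∃ B : ℕ, ∀ (G : Type u) [Group G] [Finite G] (β : G →* G),
    (∀ x, β (β x) = x) → Subgroup.closure (Set.range fun c : G => c * (β c)⁻¹) = ⊤ →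
      Nat.card (oddInverted β) ≤ m → Nat.card G ≤ B := by
  induction m with
  | zero =>
    refine ⟨0, fun G _ _ β _ _ h => ?_⟩
    haveI : Nonempty (oddInverted β) := ⟨⟨1, by simp [oddInverted]⟩⟩
    have := Nat.card_pos (α := oddInverted β)
    omega
  | succ m ih =>
    obtain ⟨Bp, hBp⟩ := ih
    obtain ⟨B₀, hB₀⟩ := exists_bound_of_fitting_eq_bot.{u} ((m + 1) ^ (m + 1))
    set c := (m + 1) ^ (m + 1) with hc
    set I := 1 + Bp * (B₀ + c * (c + (m + 1))) with hI
    refine ⟨I ^ (I * (I * I) + 1) * (m + 1), ?_⟩
    intro G _ _ β hβ hG hm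
    have hJ := closure_oddInverted hβ hG
    set Z := Subgroup.center G with hZ
    have hfix : Nat.card (fixedSub (quotHom (center_invariant hβ))) ≤ c := by
      refine (card_fixed_quot_center_le hβ hJ).trans ?_
      exact (Nat.pow_le_pow_left hm _).trans (Nat.pow_le_pow_right (Nat.succ_pos m) hm)
    -- bound the central quotient
    have hidx : Z.index ≤ I := by
      by_cases hZt : Z = ⊤
      · rw [hZt, Subgroup.index_top]; exact Nat.le_add_right 1 _
      obtain ⟨N, -, ⟨hNn, hNβ, hZN⟩, hmin⟩ := (Set.toFinite
        {N : Subgroup G | N.Normal ∧ (∀ x ∈ N, β x ∈ N) ∧ Z < N}).exists_le_minimal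
        (a := ⊤) ⟨inferInstance, fun _ _ => trivial, Ne.lt_top hZt⟩
      set π := QuotientGroup.mk' Z with hπ
      set γ := quotHom (center_invariant hβ) with hγdef
      set N' := N.map π with hN'
      haveI : N'.Normal := hNn.map _ (QuotientGroup.mk'_surjective Z)
      have hγ : ∀ g, γ (π g) = π (β g) := fun g => quotHom_mk _ g
      have hγinv : ∀ q, γ (γ q) = q := quotHom_invol _ hβ
      have hN'γ : ∀ q ∈ N', γ q ∈ N' := by
        rintro _ ⟨g, hg, rfl⟩
        exact ⟨β g, hNβ g hg, (hγ g).symm⟩
      -- minimality in the quotient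
      have hminQ : ∀ A : Subgroup (G ⧸ Z), A.Normal → (∀ q ∈ A, γ q ∈ A) → A ≤ N' → A = ⊥ ∨ A = N' := by
        intro A hAn hAγ hAN
        by_cases hA : A = ⊥
        · exact Or.inl hA
        refine Or.inr (le_antisymm hAN ?_)
        have hle : A.comap π ≤ N := by
          intro g hg
          obtain ⟨n, hn, hng⟩ := hAN hg
          have h1 : n⁻¹ * g ∈ Z := QuotientGroup.eq.mp hng
          have := mul_mem hn (hZN.le h1)
          rwa [mul_inv_cancel_left] at this
        have hlt : Z < A.comap π := by
          refine lt_of_le_of_ne (fun g hg => ?_) fun e => hA ?_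
          · rw [Subgroup.mem_comap, hπ, QuotientGroup.mk'_apply, (QuotientGroup.eq_one_iff g).mpr hg]
            exact one_mem A
          · rw [eq_bot_iff]
            intro q hq
            obtain ⟨g, rfl⟩ := QuotientGroup.mk'_surjective Z q
            rw [Subgroup.mem_bot, QuotientGroup.mk'_apply, QuotientGroup.eq_one_iff]
            exact e ▸ hq
        have heq : A.comap π = N := le_antisymm hle (hmin ⟨hAn.comap π,
          fun g hg => by rw [Subgroup.mem_comap, ← hγ]; exact hAγ _ hg, hlt⟩ hle)
        rw [hN', ← heq]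
        exact Subgroup.map_comap_le _ _
      -- the number drops modulo `N`
      let γN : N' →* N' := (γ.comp N'.subtype).codRestrict N' fun y => hN'γ _ y.2
      have hγN : ∀ y, γN (γN y) = y := fun y => Subtype.ext (hγinv _)
      have hdrop : Nat.card (oddInverted (quotHom hNβ)) < Nat.card (oddInverted β) := by
        by_cases hf : fixedSub γN = ⊥
        · have hne : N' ≠ ⊥ := fun e => hZN.not_ge fun g hg =>
            (QuotientGroup.eq_one_iff g).mp (Subgroup.mem_bot.mp (e ▸ Subgroup.mem_map_of_mem π hg))
          obtain ⟨a, ha⟩ := Subgroup.ne_bot_iff_exists_ne_one.mp hne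
          have hodd : Odd (orderOf (a : G ⧸ Z)) := by
            rw [Subgroup.orderOf_coe, ← Nat.not_even_iff_odd, even_iff_two_dvd]
            intro h2
            have h3 : orderOf (a ^ (orderOf a / 2)) = 2 := orderOf_pow_orderOf_div (orderOf_pos a).ne' h2
            set t := a ^ (orderOf a / 2)
            have ht : t ∈ fixedSub γN := by
              rw [mem_fixedSub, inv_of_fixedSub_eq_bot hγN hf, inv_eq_iff_mul_eq_one, ← sq, ← h3,
                pow_orderOf_eq_one]
            rw [hf, Subgroup.mem_bot] at ht
            rw [ht, orderOf_one] at h3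
            exact absurd h3 (by norm_num)
          obtain ⟨j, hj, hja⟩ := exists_lift (QuotientGroup.mk'_surjective Z) hβ hγ hodd
            (congrArg Subtype.val (inv_of_fixedSub_eq_bot hγN hf a))
          refine card_oddInverted_quot_lt hNβ hβ (i := 1) (j := j) (by simp [oddInverted]) hj ?_ ?_
          · intro e
            exact ha (Subtype.ext (by rw [← hja, ← e, map_one, OneMemClass.coe_one]))
          · obtain ⟨n, hn, hna⟩ := a.2
            have h1 : n⁻¹ * j ∈ Z := QuotientGroup.eq.mp (hna.trans hja.symm)
            have := mul_mem hn (hZN.le h1)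
            rw [mul_inv_cancel_left] at this
            rwa [inv_one, one_mul]
        · obtain ⟨⟨⟨q, hqN⟩, hq⟩, hq1⟩ := Subgroup.ne_bot_iff_exists_ne_one.mp hf
          obtain ⟨n, hn, rfl⟩ := hqN
          have hfixn : π (β n) = π n := by rw [← hγ]; exact congrArg Subtype.val hq
          have hnZ : n ∉ Z := fun h => hq1 (Subtype.ext (Subtype.ext ((QuotientGroup.eq_one_iff n).mpr h)))
          obtain ⟨j, hj, hjn⟩ : ∃ j ∈ oddInverted β, n * j * n⁻¹ ≠ j := by
            by_contra! hall
            refine hnZ (Subgroup.mem_center_iff.mpr fun x => ?_)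
            have hle : Subgroup.closure (oddInverted β) ≤ Subgroup.centralizer ({n} : Set G) :=
              (Subgroup.closure_le _).mpr fun y hy => Subgroup.mem_centralizer_singleton_iff.mpr
                (mul_inv_eq_iff_eq_mul.mp (hall y hy)).symm
            exact Subgroup.mem_centralizer_singleton_iff.mp (hle (by rw [hJ]; trivial))
          have hz : n⁻¹ * β n ∈ Z := QuotientGroup.eq.mp hfixn.symm
          have hnj : n * j * n⁻¹ ∈ oddInverted β := by
            refine ⟨?_, ?_⟩
            · have : orderOf (MulAut.conj n j) = orderOf j := MulEquiv.orderOf_eq _ _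
              exact this.symm ▸ hj.1
            · rw [map_mul, map_mul, map_inv, hj.2]
              have hcz := Subgroup.mem_center_iff.mp hz j⁻¹
              calc β n * j⁻¹ * (β n)⁻¹ = n * ((n⁻¹ * β n) * j⁻¹) * (n⁻¹ * β n)⁻¹ * n⁻¹ := by group
                _ = n * (j⁻¹ * (n⁻¹ * β n)) * (n⁻¹ * β n)⁻¹ * n⁻¹ := by rw [← hcz]
                _ = (n * j * n⁻¹)⁻¹ := by group
          refine card_oddInverted_quot_lt hNβ hβ hj hnj hjn.symm ?_
          have h1 := mul_mem (hNn.conj_mem n hn j⁻¹) (inv_mem hn)
          convert h1 using 1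
          group
      have hGN : Nat.card (G ⧸ N) ≤ Bp := hBp _ _ (quotHom_invol hNβ hβ)
        (closure_range_quot hNβ hG) (by omega)
      -- the bound on `N'`
      have hfixN : Nat.card (fixedSub γN) ≤ c := by
        refine le_trans ?_ hfix
        rw [← Subgroup.card_map_of_injective N'.subtype_injective]
        refine Subgroup.card_le_of_le ?_
        rintro _ ⟨y, hy, rfl⟩
        exact congrArg Subtype.val hy
      let eN : N' ≃* N' :=
        { toFun := γN, invFun := γN, left_inv := hγN, right_inv := hγN, map_mul' := map_mul γN }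
      have hchar : ∀ A : Subgroup N', A.Characteristic → A = ⊥ ∨ A = ⊤ := by
        intro A hA
        rcases hminQ (A.map N'.subtype) ConjAct.normal_of_characteristic_of_normal (by
          rintro _ ⟨a, ha, rfl⟩
          exact ⟨eN a, (Subgroup.characteristic_iff_map_le.mp hA eN) ⟨a, ha, rfl⟩, rfl⟩)
          (Subgroup.map_subtype_le A) with h | h
        · exact Or.inl ((Subgroup.map_eq_bot_iff_of_injective _ N'.subtype_injective).mp h)
        · refine Or.inr (eq_top_iff.mpr fun a _ => ?_)
          obtain ⟨b, hb, hba⟩ := (h.symm ▸ a.2 : (a : G ⧸ Z) ∈ A.map N'.subtype)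
          exact (Subtype.ext hba : b = a) ▸ hb
      have hN'card : Nat.card N' ≤ B₀ + c * (c + (m + 1)) := by
        rcases hchar _ (fittingSubgroup_characteristic (N := N')) with hF | hF
        · exact (hB₀ N' γN hγN hF hfixN).trans (Nat.le_add_right _ _)
        haveI hnil : Group.IsNilpotent N' := by
          haveI := Fitting.fittingSubgroup_isNilpotent (G := N')
          rw [hF] at this
          exact Group.nilpotent_of_mulEquiv Subgroup.topEquiv
        by_cases hsub : Subsingleton N'
        · have hle : Nat.card N' ≤ 1 := Finite.card_le_one_iff_subsingleton.mpr hsub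
          have : 0 < c := Nat.pow_pos (Nat.succ_pos m)
          nlinarith
        haveI : Nontrivial N' := not_subsingleton_iff_nontrivial.mp hsub
        have hcent : Subgroup.center N' = ⊤ := (hchar _ inferInstance).resolve_left fun h => by
          have := Group.IsNilpotent.center_ne_bot (G := N')
          exact this h
        have hcomm : ∀ a b : N', a * b = b * a := fun a b =>
          Subgroup.mem_center_iff.mp (hcent ▸ Subgroup.mem_top b : b ∈ Subgroup.center N') a
        let R : Set N' := Set.range fun y : N' => y * (γN y)⁻¹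
        have hR : Nat.card R ≤ c + (m + 1) := by
          let S₂ : Subgroup N' :=
            { carrier := {y | y * y = 1}
              one_mem' := one_mul 1
              mul_mem' := fun {a b} ha hb => by
                show a * b * (a * b) = 1
                rw [mul_assoc, ← mul_assoc b, hcomm b a, mul_assoc a b, ← mul_assoc a a, ha, one_mul]
                exact hb
              inv_mem' := fun {a} ha => by
                show a⁻¹ * a⁻¹ = 1
                rw [← _root_.mul_inv_rev, ha, inv_one] }
          have hS : S₂.Characteristic := Subgroup.characteristic_iff_map_le.mpr fun φ => by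
            rintro _ ⟨y, hy, rfl⟩
            show φ y * φ y = 1
            rw [← map_mul, (show y * y = 1 from hy), map_one]
          rcases hchar _ hS with h | h
          · -- odd order
            refine le_trans ?_ ((hm).trans (Nat.le_add_left _ c))
            have hodd : ∀ y : N', Odd (orderOf y) := fun y => by
              rw [← Nat.not_even_iff_odd, even_iff_two_dvd]
              intro h2
              have h3 : orderOf (y ^ (orderOf y / 2)) = 2 := orderOf_pow_orderOf_div (orderOf_pos y).ne' h2
              have h4 : y ^ (orderOf y / 2) ∈ S₂ := by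
                show y ^ (orderOf y / 2) * y ^ (orderOf y / 2) = 1
                have := pow_orderOf_eq_one (y ^ (orderOf y / 2))
                rw [h3] at this
                rw [← sq]
                exact this
              rw [h, Subgroup.mem_bot] at h4
              rw [h4, orderOf_one] at h3
              exact absurd h3 (by norm_num)
            have hl : ∀ r : R, ∃ j : oddInverted β, π (j : G) = ((r : N') : G ⧸ Z) := fun r => by
              obtain ⟨j, hj, hjr⟩ := exists_lift (QuotientGroup.mk'_surjective Z) hβ hγ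
                ((orderOf_injective N'.subtype N'.subtype_injective r.1).symm ▸ hodd r.1)
                (congrArg Subtype.val (map_range_inv hγN r.2))
              exact ⟨⟨j, hj⟩, hjr⟩
            choose g hg using hl
            refine Nat.card_le_card_of_injective g fun r r' e => ?_
            exact Subtype.ext (Subtype.ext (by rw [← hg r, ← hg r', e]))
          · -- exponent two
            refine le_trans ?_ (hfixN.trans (Nat.le_add_right c _))
            refine Nat.card_le_card_of_injective
              (fun r => (⟨r.1, ?_⟩ : fixedSub γN)) fun r r' e => Subtype.ext (congrArg (fun t => t.1) e)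
            rw [mem_fixedSub, map_range_inv hγN r.2, inv_eq_iff_mul_eq_one]
            exact (h ▸ Subgroup.mem_top r.1 : r.1 ∈ S₂)
        rw [← card_fixed_mul_card_range γN]
        exact (Nat.mul_le_mul hfixN hR).trans (Nat.le_add_left _ _)
      have h1 : Z.index = N.index * Nat.card N' := by
        have h2 := N'.index_mul_card
        rw [hN', Subgroup.index_map_eq _ (QuotientGroup.mk'_surjective Z) (by
          rw [QuotientGroup.ker_mk']; exact hZN.le)] at h2
        rw [hN', h2]
        rfl
      rw [h1]
      exact (Nat.mul_le_mul hGN hN'card).trans (Nat.le_add_left _ 1)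
    -- Schur
    have hcs : Nat.card (commutatorSet G) ≤ I * I :=
      commutatorSet_card_le.trans (Nat.mul_le_mul hidx hidx)
    have hder : Nat.card (commutator G) ≤ I ^ (I * (I * I) + 1) := by
      refine (Nat.le_of_dvd (pow_pos (Nat.pos_of_ne_zero Subgroup.index_ne_zero_of_finite) _)
        (Subgroup.card_commutator_dvd_index_center_pow G)).trans ?_
      refine (Nat.pow_le_pow_left hidx _).trans (Nat.pow_le_pow_right (by omega) ?_)
      exact Nat.add_le_add_right (Nat.mul_le_mul hidx hcs) 1
    -- the abelianisation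
    have hinvA : ∀ x ∈ commutator G, β x ∈ commutator G := fun x hx => by
      have : (commutator G).map β ≤ commutator G := by
        rw [commutator_def, Subgroup.map_commutator]
        exact Subgroup.commutator_mono le_top le_top
      exact this ⟨x, hx, rfl⟩
    set δ := quotHom hinvA
    have hcommQ : ∀ a b : G ⧸ commutator G, a * b = b * a := fun a b => mul_comm (G := Abelianization G) a b
    let E : Subgroup (G ⧸ commutator G) :=
      { carrier := {q | Odd (orderOf q) ∧ δ q = q⁻¹}
        one_mem' := by simp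
        mul_mem' := fun {a b} ha hb => ⟨(ha.1.mul hb.1).of_dvd_nat
          ((show Commute a b from hcommQ a b).orderOf_mul_dvd_mul_orderOf), by
          rw [map_mul, ha.2, hb.2, _root_.mul_inv_rev, hcommQ]⟩
        inv_mem' := fun {a} ha => ⟨(orderOf_inv a).symm ▸ ha.1, by rw [map_inv, ha.2]⟩ }
    have hE : ∀ q : G ⧸ commutator G, q ∈ E := by
      intro q
      obtain ⟨g, rfl⟩ := QuotientGroup.mk'_surjective (commutator G) q
      have hle : Subgroup.closure (oddInverted β) ≤ E.comap (QuotientGroup.mk' (commutator G)) :=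
        (Subgroup.closure_le _).mpr fun y hy => ⟨hy.1.of_dvd_nat (orderOf_map_dvd _ y), by
          rw [quotHom_mk, hy.2, map_inv]⟩
      exact hle (by rw [hJ]; trivial)
    have hAb : Nat.card (G ⧸ commutator G) ≤ m + 1 := by
      refine le_trans ?_ hm
      have hl : ∀ q : G ⧸ commutator G, ∃ j : oddInverted β, QuotientGroup.mk' (commutator G) (j : G) = q := by
        intro q
        obtain ⟨j, hj, hjq⟩ := exists_lift (QuotientGroup.mk'_surjective (commutator G)) hβ
          (γ := δ) (fun g => quotHom_mk hinvA g) (hE q).1 (hE q).2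
        exact ⟨⟨j, hj⟩, hjq⟩
      choose g hg using hl
      exact Nat.card_le_card_of_injective g fun q q' e => by rw [← hg q, ← hg q', e]
    rw [(commutator G).card_eq_card_quotient_mul_card_subgroup, mul_comm]
    exact Nat.mul_le_mul hder hAb

end Cfsg.Agent.Lib.InvertedBound
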