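import Mathlib
import Cfsg.Agent.Lib.Fitting.Nilpotent

/-!
# A Brauer–Fowler bound for involutive automorphisms

A finite group with trivial Fitting subgroup is bounded by a function of the number of fixed
points of any involutive automorphism.
-/

set_option autoImplicit false

namespace Cfsg.Agent.Lib.InvertedBound

universe u

variable {N : Type u} [Group N]

/-- Fixed points. -/
def fixedSub (β : N →* N) : Subgroup N := β.eqLocus (MonoidHom.id N)

theorem mem_fixedSub {β : N →* N} {x : N} : x ∈ fixedSub β ↔ β x = x := Iff.rfl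

theorem card_fixed_mul_card_range [Finite N] (β : N →* N) :
    Nat.card (fixedSub β) * Nat.card (Set.range fun c : N => c * (β c)⁻¹) = Nat.card N := by
  have e : ∀ c d : N, (QuotientGroup.mk c : N ⧸ fixedSub β) = QuotientGroup.mk d ↔
      c * (β c)⁻¹ = d * (β d)⁻¹ := by
    intro c d
    rw [QuotientGroup.eq, mem_fixedSub, map_mul, map_inv]
    constructor
    · intro h
      have h1 : β d = β c * (c⁻¹ * d) := by rw [← h, mul_inv_cancel_left]
      rw [h1]; group
    · intro h
      have h1 : (β d)⁻¹ = d⁻¹ * c * (β c)⁻¹ := by rw [mul_assoc, h, inv_mul_cancel_left]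
      have h2 : β d = β c * c⁻¹ * d := by
        have := congrArg (fun t : N => t⁻¹) h1
        simpa [mul_assoc] using this
      rw [h2]; group
  let g : N ⧸ fixedSub β → Set.range fun c : N => c * (β c)⁻¹ :=
    Quotient.lift (fun c => ⟨c * (β c)⁻¹, c, rfl⟩) fun c d h =>
      Subtype.ext ((e c d).mp (Quotient.sound h))
  have hg : Function.Bijective g := by
    refine ⟨fun x y h => ?_, fun ⟨_, c, rfl⟩ => ⟨QuotientGroup.mk c, rfl⟩⟩
    induction x using QuotientGroup.induction_on with
    | _ c =>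
      induction y using QuotientGroup.induction_on with
      | _ d => exact (e c d).mpr (congrArg Subtype.val h)
  rw [← Nat.card_eq_of_bijective g hg, mul_comm, ← Subgroup.card_eq_card_quotient_mul_card_subgroup]

theorem map_range_inv {β : N →* N} (hβ : ∀ x, β (β x) = x) {y : N}
    (hy : y ∈ Set.range fun c : N => c * (β c)⁻¹) : β y = y⁻¹ := by
  obtain ⟨c, rfl⟩ := hy
  simp [hβ]

/-- A fixed-point-free involutive automorphism inverts every element. -/
theorem inv_of_fixedSub_eq_bot [Finite N] {β : N →* N} (hβ : ∀ x, β (β x) = x)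
    (h : fixedSub β = ⊥) (x : N) : β x = x⁻¹ := by
  have hinj : Function.Injective fun c : N => c * (β c)⁻¹ := by
    intro c d hcd
    have h1 : c⁻¹ * d ∈ fixedSub β := by
      simp only at hcd
      have h2 : (β d)⁻¹ = d⁻¹ * c * (β c)⁻¹ := by rw [mul_assoc, hcd, inv_mul_cancel_left]
      have h3 : β d = β c * c⁻¹ * d := by
        have := congrArg (fun t : N => t⁻¹) h2
        simpa [mul_assoc] using this
      rw [mem_fixedSub, map_mul, map_inv, h3]; group
    rw [h, Subgroup.mem_bot] at h1
    exact (inv_mul_eq_one.mp h1)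
  obtain ⟨c, hc⟩ := Finite.surjective_of_injective hinj x
  exact map_range_inv hβ ⟨c, hc⟩

theorem exists_small_index [Finite N] (β : N →* N) (hβ : ∀ x, β (β x) = x) :
    Nat.card N ≤ Nat.card (fixedSub β) ∨ ∃ x : N, x ≠ 1 ∧
      (Subgroup.centralizer ({x} : Set N)).index ≤ 2 * Nat.card (fixedSub β) ^ 2 := by
  classical
  cases nonempty_fintype N
  set R : Finset N := (Set.range fun c : N => c * (β c)⁻¹).toFinset with hR
  have hcard : Nat.card (fixedSub β) * R.card = Nat.card N := by
    rw [hR, ← Set.ncard_eq_toFinset_card', ← Nat.card_coe_set_eq]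
    exact card_fixed_mul_card_range β
  by_cases hR1 : R.card ≤ 1
  · exact Or.inl (by rw [← hcard]; exact (Nat.mul_le_mul_left _ hR1).trans (Nat.mul_one _).le)
  right
  by_contra! hcon
  set c := Nat.card (fixedSub β)
  set g := Nat.card N
  -- fibres of `(a, b) ↦ a⁻¹ b`
  have hfib : ∀ x : N, ((R ×ˢ R).filter fun q => q.1⁻¹ * q.2 = x).card ≤
      Nat.card (Subgroup.centralizer ({x} : Set N)) := by
    intro x
    set S := (R ×ˢ R).filter fun q => q.1⁻¹ * q.2 = x with hS
    rcases S.eq_empty_or_nonempty with h0 | ⟨q₀, hq₀⟩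
    · simp [h0]
    have key : ∀ q ∈ S, β x = q.1 * x⁻¹ * q.1⁻¹ := by
      intro q hq
      obtain ⟨hq', hqx⟩ := Finset.mem_filter.mp hq
      obtain ⟨h1, h2⟩ := Finset.mem_product.mp hq'
      have i1 := map_range_inv hβ (Set.mem_toFinset.mp h1)
      have i2 := map_range_inv hβ (Set.mem_toFinset.mp h2)
      rw [← hqx, map_mul, map_inv, i1, i2]
      group
    have hmem : ∀ q ∈ S, q₀.1⁻¹ * q.1 ∈ Subgroup.centralizer ({x} : Set N) := by
      intro q hq
      have h1 : q₀.1 * x⁻¹ * q₀.1⁻¹ = q.1 * x⁻¹ * q.1⁻¹ := (key q₀ hq₀).symm.trans (key q hq)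
      have h2 : Commute (q₀.1⁻¹ * q.1) x⁻¹ := by
        show _ = _
        calc q₀.1⁻¹ * q.1 * x⁻¹ = q₀.1⁻¹ * (q.1 * x⁻¹ * q.1⁻¹) * q.1 := by group
          _ = q₀.1⁻¹ * (q₀.1 * x⁻¹ * q₀.1⁻¹) * q.1 := by rw [h1]
          _ = _ := by group
      exact Subgroup.mem_centralizer_singleton_iff.mpr (Commute.inv_right_iff.mp h2).eq
    rw [← Fintype.card_coe, ← Nat.card_eq_fintype_card]
    refine Nat.card_le_card_of_injective (fun q => ⟨_, hmem q.1 q.2⟩) ?_
    intro q q' h
    have h1 : q.1.1 = q'.1.1 := mul_left_cancel (congrArg Subtype.val h)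
    have e1 := (Finset.mem_filter.mp q.2).2
    have e2 := (Finset.mem_filter.mp q'.2).2
    refine Subtype.ext (Prod.ext h1 ?_)
    rw [← e2, h1] at e1
    exact mul_left_cancel e1
  have hfib1 : ((R ×ˢ R).filter fun q => q.1⁻¹ * q.2 = 1).card ≤ R.card := by
    refine Finset.card_le_card_of_injOn (fun q => q.1) (fun q hq => ?_) ?_
    · exact (Finset.mem_product.mp (Finset.mem_filter.mp hq).1).1
    · intro q hq q' hq' h
      have e1 := inv_mul_eq_one.mp (Finset.mem_filter.mp hq).2
      have e2 := inv_mul_eq_one.mp (Finset.mem_filter.mp hq').2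
      exact Prod.ext h (e1.symm.trans (h.trans e2))
  -- weighted by `2 c²`
  have hsum : (R ×ˢ R).card = ∑ x, ((R ×ˢ R).filter fun q => q.1⁻¹ * q.2 = x).card :=
    Finset.card_eq_sum_card_fiberwise fun q _ => Finset.mem_univ _
  rw [Finset.card_product, ← Finset.add_sum_erase _ _ (Finset.mem_univ (1 : N))] at hsum
  have hb : ∀ x ∈ Finset.univ.erase (1 : N),
      2 * c ^ 2 * ((R ×ˢ R).filter fun q => q.1⁻¹ * q.2 = x).card ≤ g := by
    intro x hx
    have h1 := hcon x (Finset.ne_of_mem_erase hx)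
    have h2 := (Subgroup.centralizer ({x} : Set N)).card_mul_index
    calc 2 * c ^ 2 * _ ≤ (Subgroup.centralizer ({x} : Set N)).index *
          Nat.card (Subgroup.centralizer ({x} : Set N)) := Nat.mul_le_mul h1.le (hfib x)
      _ = g := by rw [mul_comm, h2]
  have hs := Finset.sum_le_sum hb
  rw [← Finset.mul_sum, Finset.sum_const, smul_eq_mul, Finset.card_erase_of_mem (Finset.mem_univ _),
    Finset.card_univ, ← Nat.card_eq_fintype_card] at hs
  have hc : 0 < c := Nat.card_pos
  have h3 : 2 * c ^ 2 * (R.card * R.card) ≤ 2 * c ^ 2 * R.card + (g - 1) * g :=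
    calc 2 * c ^ 2 * (R.card * R.card)
        = 2 * c ^ 2 * ((R ×ˢ R).filter fun q => q.1⁻¹ * q.2 = 1).card + 2 * c ^ 2 *
          ∑ x ∈ Finset.univ.erase 1, ((R ×ˢ R).filter fun q => q.1⁻¹ * q.2 = x).card := by
          rw [hsum, mul_add]
      _ ≤ _ := Nat.add_le_add (Nat.mul_le_mul_left _ hfib1) hs
  obtain ⟨g', hg'⟩ : ∃ g', g = g' + 1 := ⟨g - 1, by
    have : 0 < g := Nat.card_pos
    omega⟩
  rw [hg', Nat.add_sub_cancel] at h3
  have hg2 : g' + 1 = c * R.card := hg'.symm.trans hcard.symm
  have hR2 : 2 ≤ R.card := by omega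
  have h4 : 0 < g' + 1 := Nat.succ_pos _
  nlinarith [Nat.mul_le_mul_left (c * c * R.card) hR2]

theorem map_fittingSubgroup_le {M : Type u} [Group M] (e : N ≃* M) :
    (Cfsg.fittingSubgroup N).map e.toMonoidHom ≤ Cfsg.fittingSubgroup M := by
  rw [Subgroup.map_le_iff_le_comap]
  refine sSup_le fun A hA => ?_
  rw [← Subgroup.map_le_iff_le_comap]
  haveI := hA.2
  exact le_sSup ⟨hA.1.map e.toMonoidHom e.surjective,
    Group.nilpotent_of_mulEquiv (A.equivMapOfInjective e.toMonoidHom e.injective)⟩

instance fittingSubgroup_characteristic : (Cfsg.fittingSubgroup N).Characteristic :=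
  Subgroup.characteristic_iff_map_le.mpr fun φ => map_fittingSubgroup_le φ

theorem fitting_eq_bot_of_normal [Finite N] (hF : Cfsg.fittingSubgroup N = ⊥) (K : Subgroup N)
    [K.Normal] : Cfsg.fittingSubgroup K = ⊥ := by
  haveI : ((Cfsg.fittingSubgroup K).map K.subtype).Normal :=
    ConjAct.normal_of_characteristic_of_normal
  haveI := Fitting.fittingSubgroup_isNilpotent (G := K)
  have h1 : (Cfsg.fittingSubgroup K).map K.subtype ≤ Cfsg.fittingSubgroup N :=
    le_sSup ⟨inferInstance, Group.nilpotent_of_mulEquiv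
      ((Cfsg.fittingSubgroup K).equivMapOfInjective K.subtype K.subtype_injective)⟩
  rw [hF, le_bot_iff, Subgroup.map_eq_bot_iff_of_injective _ K.subtype_injective] at h1
  exact h1

theorem eq_bot_of_comm [Finite N] (hF : Cfsg.fittingSubgroup N = ⊥) {A : Subgroup N} (hn : A.Normal)
    (hc : ∀ a ∈ A, ∀ b ∈ A, a * b = b * a) : A = ⊥ := by
  haveI : Group.IsNilpotent A := by
    letI : CommGroup A :=
      { (inferInstance : Group A) with mul_comm := fun a b => Subtype.ext (hc a a.2 b b.2) }
    exact CommGroup.isNilpotent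
  exact le_bot_iff.mp (hF ▸ le_sSup ⟨hn, inferInstance⟩)

/-- **Brauer–Fowler bound.** -/
theorem exists_bound_of_fitting_eq_bot (c : ℕ) : ∃ B : ℕ, ∀ (N : Type u) [Group N] [Finite N]
    (β : N →* N), (∀ x, β (β x) = x) → Cfsg.fittingSubgroup N = ⊥ →
      Nat.card (fixedSub β) ≤ c → Nat.card N ≤ B := by
  induction c using Nat.strong_induction_on with
  | _ c ih =>
    choose B hB using ih
    let B' : ℕ := ∑ j : Fin c, B j j.2
    refine ⟨c + (2 * c ^ 2).factorial * (2 * c ^ 2).factorial * B', ?_⟩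
    intro N _ _ β hβ hF hc
    rcases exists_small_index β hβ with h | ⟨x, hx, hidx⟩
    · omega
    set H := Subgroup.centralizer ({x} : Set N)
    let e : N ≃* N := { toFun := β, invFun := β, left_inv := hβ, right_inv := hβ, map_mul' := map_mul β }
    set K₀ := H.normalCore with hK₀
    haveI hK₁ : (K₀.map e.toMonoidHom).Normal :=
      (Subgroup.normalCore_normal H).map _ e.surjective
    set K := K₀ ⊓ K₀.map e.toMonoidHom with hK
    haveI : K.Normal := inferInstanceAs (K₀ ⊓ K₀.map e.toMonoidHom).Normal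
    have hKβ : ∀ y ∈ K, β y ∈ K := by
      rintro y ⟨h1, z, hz, rfl⟩
      refine ⟨?_, _, h1, rfl⟩
      show β (β z) ∈ K₀
      rwa [hβ]
    have hKx : ∀ y ∈ K, y * x = x * y := fun y hy =>
      Subgroup.mem_centralizer_singleton_iff.mp (H.normalCore_le hy.1)
    have hidxK : K.index ≤ (2 * c ^ 2).factorial * (2 * c ^ 2).factorial := by
      have hH : H.index ≤ 2 * c ^ 2 := hidx.trans (by gcongr)
      have hK₀i : K₀.index ≤ (2 * c ^ 2).factorial := by
        refine (Nat.le_of_dvd (Nat.factorial_pos _) ?_).trans (Nat.factorial_le hH)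
        rw [hK₀, Subgroup.normalCore_eq_ker, Subgroup.index_ker]
        refine (Subgroup.card_subgroup_dvd_card _).trans (dvd_of_eq ?_)
        rw [Nat.card_perm, Subgroup.index]
      refine Subgroup.index_inf_le.trans (Nat.mul_le_mul hK₀i ?_)
      rw [Subgroup.index_map_of_bijective (f := e.toMonoidHom) e.bijective]
      exact hK₀i
    -- the centraliser of `K`
    set L := Subgroup.centralizer (K : Set N) with hL
    haveI : L.Normal := Subgroup.normal_centralizer
    have hxL : x ∈ L := Subgroup.mem_centralizer_iff.mpr hKx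
    have hLβ : ∀ y ∈ L, β y ∈ L := fun y hy => Subgroup.mem_centralizer_iff.mpr fun k hk => by
      have := congrArg β (Subgroup.mem_centralizer_iff.mp hy (β k) (hKβ k hk))
      rwa [map_mul, map_mul, hβ] at this
    obtain ⟨l, hlL, hl1, hlf⟩ : ∃ l ∈ L, l ≠ 1 ∧ β l = l := by
      by_contra! h
      let γ : L →* L := (β.comp L.subtype).codRestrict L fun y => hLβ _ y.2
      have hinv := inv_of_fixedSub_eq_bot (β := γ) (fun y => Subtype.ext (hβ _)) (by
        rw [eq_bot_iff]
        intro y hy
        rw [Subgroup.mem_bot]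
        by_contra hy1
        exact h y y.2 (fun e => hy1 (Subtype.ext e)) (congrArg Subtype.val hy))
      refine hx (Subgroup.mem_bot.mp ((eq_bot_of_comm hF (A := L) inferInstance fun a ha b hb => ?_) ▸ hxL))
      have h1 := map_mul γ ⟨a, ha⟩ ⟨b, hb⟩
      rw [hinv, hinv, hinv, ← _root_.mul_inv_rev] at h1
      exact congrArg Subtype.val (inv_injective h1)
    have hlK : l ∉ K := fun hlK => hl1 (Subgroup.mem_bot.mp
      ((eq_bot_of_comm hF (A := K ⊓ L) inferInstance fun a ha b hb =>
        Subgroup.mem_centralizer_iff.mp hb.2 a ha.1) ▸ ⟨hlK, hlL⟩))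
    let βK : K →* K := (β.comp K.subtype).codRestrict K fun y => hKβ _ y.2
    have hlt : Nat.card (fixedSub βK) < c := by
      refine lt_of_lt_of_le ?_ hc
      rw [← Subgroup.card_map_of_injective K.subtype_injective]
      have hle : (fixedSub βK).map K.subtype ≤ fixedSub β := by
        rintro _ ⟨y, hy, rfl⟩
        exact congrArg Subtype.val hy
      refine lt_of_le_of_ne (Subgroup.card_le_of_le hle) fun he => hlK ?_
      have := Subgroup.eq_of_le_of_card_ge hle he.ge
      have hmem : l ∈ (fixedSub βK).map K.subtype := this ▸ hlf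
      exact Subgroup.map_subtype_le _ hmem
    have hcard := hB _ hlt K βK (fun y => Subtype.ext (hβ _)) (fitting_eq_bot_of_normal hF K) le_rfl
    have h1 : B _ hlt ≤ B' :=
      Finset.single_le_sum (f := fun j : Fin c => B j j.2) (fun _ _ => Nat.zero_le _)
        (Finset.mem_univ (⟨_, hlt⟩ : Fin c))
    have h2 := Nat.mul_le_mul hidxK (hcard.trans h1)
    rw [K.index_mul_card] at h2
    omega

end Cfsg.Agent.Lib.InvertedBound
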